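import Mathlib.Algebra.DualNumber
import Mathlib.RingTheory.Flat.EquationalCriterion

/-!
Flatness over the dual numbers.
-/

open TrivSqZeroExt DualNumber

namespace Groth.Agent.H53.DualFlat

variable {A : Type*} [CommRing A]

theorem eq_inl_add (f : DualNumber A) :
    f = inl f.fst + ε * inl f.snd := by
  ext <;> simp

/-- A module over the dual numbers whose kernel of `ε` is `εM` and which is flat modulo `ε` is
flat. -/
theorem flat_of_fst {M N : Type*} [AddCommGroup M] [Module (DualNumber A) M] [AddCommGroup N]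
    [Module A N] [Module.Flat A N] (q : M →+ N)
    (hq : ∀ (f : DualNumber A) (m : M), q (f • m) = f.fst • q m) (hsurj : Function.Surjective q)
    (hker : ∀ m, q m = 0 → ∃ z, m = (ε : DualNumber A) • z)
    (hann : ∀ m : M, (ε : DualNumber A) • m = 0 → q m = 0) :
    Module.Flat (DualNumber A) M := by
  refine Module.Flat.of_forall_isTrivialRelation fun {l f x} h => ?_
  have h0 : ∑ i, (f i).fst • q (x i) = 0 := by
    rw [← map_zero q, ← h, map_sum]
    exact Finset.sum_congr rfl fun i _ => (hq _ _).symm
  obtain ⟨k, c, ybar, hx, hc⟩ := Module.Flat.isTrivialRelation_of_sum_smul_eq_zero h0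
  replace hx : ∀ i, q (x i) = ∑ j, c i j • ybar j := hx
  replace hc : ∀ j, ∑ i, (f i).fst * c i j = 0 := hc
  choose y hy using fun j => hsurj (ybar j)
  have hz : ∀ i, ∃ z, x i - ∑ j, (inl (c i j) : DualNumber A) • y j = (ε : DualNumber A) • z :=
    fun i => hker _ <| by
      rw [map_sub, map_sum, hx i, sub_eq_zero]
      exact (Finset.sum_congr rfl fun j _ => by rw [hq, fst_inl, hy]).symm
  choose z hz using hz
  let d : Fin k → A := fun j => ∑ i, (f i).snd * c i j
  have hd : ∀ j, ∑ i, f i * inl (c i j) = (ε : DualNumber A) * inl (d j) := by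
    intro j
    ext
    · simp [fst_sum, hc j]
    · simp [snd_sum, d]
  have hε : (ε : DualNumber A) • (∑ j, (inl (d j) : DualNumber A) • y j + ∑ i, f i • z i) = 0 := by
    rw [← h]
    have hxi : ∀ i, x i = (ε : DualNumber A) • z i + ∑ j, (inl (c i j) : DualNumber A) • y j :=
      fun i => by rw [← hz i, sub_add_cancel]
    simp only [hxi, smul_add, Finset.smul_sum, smul_smul, Finset.sum_add_distrib]
    conv_rhs => arg 2; rw [Finset.sum_comm]
    simp only [← Finset.sum_smul, hd]
    rw [add_comm]
    congr 1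
    exact Finset.sum_congr rfl fun i _ => by rw [mul_comm]
  have h1 := hann _ hε
  simp only [map_add, map_sum, hq, fst_inl] at h1
  have h2 : ∑ t : Fin k ⊕ Fin l, (Sum.elim d fun i => (f i).fst) t •
      (Sum.elim (fun j => q (y j)) fun i => q (z i)) t = 0 := by
    rw [Fintype.sum_sum_type]
    simpa using h1
  obtain ⟨n, e, wbar, hw, he⟩ := Module.Flat.isTrivialRelation_of_sum_smul_eq_zero h2
  choose w hw' using fun t => hsurj (wbar t)
  have hy' : ∀ j, ∃ u, y j - ∑ t, (inl (e (Sum.inl j) t) : DualNumber A) • w t =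
      (ε : DualNumber A) • u := fun j => hker _ <| by
    rw [map_sub, map_sum, sub_eq_zero]
    exact (hw (Sum.inl j)).trans (Finset.sum_congr rfl fun t _ => by rw [hq, fst_inl, hw'])
  have hz' : ∀ i, ∃ u, z i - ∑ t, (inl (e (Sum.inr i) t) : DualNumber A) • w t =
      (ε : DualNumber A) • u := fun i => hker _ <| by
    rw [map_sub, map_sum, sub_eq_zero]
    exact (hw (Sum.inr i)).trans (Finset.sum_congr rfl fun t _ => by rw [hq, fst_inl, hw'])
  choose uy huy using hy'
  choose uz huz using hz'
  let coef : Fin l → Fin n ⊕ Fin k → DualNumber A := fun i => Sum.elim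
    (fun t => (∑ j, inl (c i j) * inl (e (Sum.inl j) t)) + ε * inl (e (Sum.inr i) t))
    (fun j => ε * inl (c i j))
  let v : Fin n ⊕ Fin k → M := Sum.elim w uy
  refine ⟨n + k, fun i => coef i ∘ finSumFinEquiv.symm, v ∘ finSumFinEquiv.symm,
    fun i => ?_, fun t => ?_⟩
  · simp only [Function.comp_apply]
    rw [finSumFinEquiv.symm.sum_comp (fun t => coef i t • v t), Fintype.sum_sum_type]
    have hyj : ∀ j, y j = (∑ t, (inl (e (Sum.inl j) t) : DualNumber A) • w t) +
        (ε : DualNumber A) • uy j := fun j => by rw [← huy j]; abel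
    have hzi : z i = (∑ t, (inl (e (Sum.inr i) t) : DualNumber A) • w t) +
        (ε : DualNumber A) • uz i := by rw [← huz i]; abel
    rw [eq_add_of_sub_eq (hz i), hzi]
    simp only [hyj, coef, v, Sum.elim_inl, Sum.elim_inr, smul_add, smul_smul, Finset.smul_sum,
      add_smul, Finset.sum_smul, Finset.sum_add_distrib, eps_mul_eps, zero_smul, add_zero]
    rw [Finset.sum_comm (γ := Fin n)]
    have : ∀ j, (inl (c i j) : DualNumber A) * ε = ε * inl (c i j) := fun j => mul_comm _ _
    simp only [this]
    abel
  · show ∑ i, f i * coef i (finSumFinEquiv.symm t) = 0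
    generalize finSumFinEquiv.symm t = s
    rcases s with t | j
    · simp only [coef, Sum.elim_inl, mul_add, Finset.mul_sum, ← mul_assoc, Finset.sum_add_distrib]
      conv_lhs => arg 1; rw [Finset.sum_comm]
      simp only [← Finset.sum_mul, hd]
      have h3 := he t
      rw [Fintype.sum_sum_type] at h3
      simp only [Sum.elim_inl, Sum.elim_inr] at h3
      ext
      · simp [fst_sum]
      · simpa [fst_sum, snd_sum, mul_comm] using h3
    · simp only [coef, Sum.elim_inr]
      ext
      · simp [fst_sum]
      · simpa [fst_sum, snd_sum, mul_comm] using hc j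

theorem exists_eq_eps_smul_of_flat {M : Type*} [AddCommGroup M] [Module (DualNumber A) M]
    [Module.Flat (DualNumber A) M] (m : M) (h : (ε : DualNumber A) • m = 0) :
    ∃ z, m = (ε : DualNumber A) • z := by
  obtain ⟨k, a, y, hx, ha⟩ := Module.Flat.isTrivialRelation_of_sum_smul_eq_zero
    (f := fun _ : Fin 1 => (ε : DualNumber A)) (x := fun _ => m) (by simpa using h)
  refine ⟨∑ j, (inl (a 0 j).snd : DualNumber A) • y j, (hx 0).trans ?_⟩
  rw [Finset.smul_sum]
  refine Finset.sum_congr rfl fun j _ => ?_
  have h0 : (a 0 j).fst = 0 := by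
    have := congrArg TrivSqZeroExt.snd (ha j)
    simpa using this
  rw [smul_smul]
  conv_lhs => rw [eq_inl_add (a 0 j), h0, inl_zero, zero_add]

end Groth.Agent.H53.DualFlat
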